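import Mathlib

/-! Deviations of maps between abelian groups; pointed maps of degree two. -/

namespace Groth.Agent.H7.Deg

open Finset

variable {A : Type*} {G : Type*} [AddCommGroup A] [AddCommGroup G]

/-- finite difference of `f` at `c` along `x i`, `i ∈ s` -/
noncomputable def delta {ι : Type*} (f : A → G) (s : Finset ι) (x : ι → A) (c : A) : G :=
  ∑ I ∈ s.powerset, ((-1 : ℤ) ^ (s.card + I.card)) • f (c + ∑ i ∈ I, x i)

lemma delta_insert {ι : Type*} [DecidableEq ι] (f : A → G) {s : Finset ι} {a : ι} (ha : a ∉ s)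
    (x : ι → A) (c : A) :
    delta f (insert a s) x c = delta f s x (c + x a) - delta f s x c := by
  unfold delta
  rw [Finset.sum_powerset_insert ha, sub_eq_add_neg, add_comm, ← Finset.sum_neg_distrib]
  congr 1
  · refine Finset.sum_congr rfl fun I hI => ?_
    have haI : a ∉ I := fun h => ha (Finset.mem_powerset.1 hI h)
    rw [Finset.card_insert_of_notMem ha, Finset.card_insert_of_notMem haI, Finset.sum_insert haI,
      show s.card + 1 + (I.card + 1) = s.card + I.card + 2 by omega, pow_add, neg_one_sq, mul_one,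
      add_assoc]
  · refine Finset.sum_congr rfl fun I hI => ?_
    rw [Finset.card_insert_of_notMem ha, show s.card + 1 + I.card = s.card + I.card + 1 by omega,
      pow_succ, mul_neg_one, neg_smul]

lemma delta_map {ι κ : Type*} (f : A → G) (e : ι ↪ κ) (s : Finset ι) (x : κ → A) (c : A) :
    delta f (s.map e) x c = delta f s (x ∘ e) c := by
  classical
  induction s using Finset.induction_on generalizing c with
  | empty => simp [delta]
  | @insert a s ha ih =>
    rw [Finset.map_insert, delta_insert f (by simpa using ha), delta_insert f ha, ih, ih]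
    rfl

lemma delta_congr {ι : Type*} (f : A → G) (s : Finset ι) {x y : ι → A} (h : ∀ i ∈ s, x i = y i)
    (c : A) : delta f s x c = delta f s y c := by
  refine Finset.sum_congr rfl fun I hI => ?_
  rw [Finset.sum_congr rfl fun i hi => h i (Finset.mem_powerset.1 hI hi)]

/-- relation with the sum over non-empty subsets -/
lemma dev_eq {k : ℕ} (f : A → G) (x : Fin k → A) :
    ∑ I ∈ ((Finset.univ : Finset (Fin k)).powerset.erase ∅), ((-1 : ℤ) ^ (k + I.card)) • f (∑ i ∈ I, x i)
      = delta f Finset.univ x 0 - ((-1 : ℤ) ^ k) • f 0 := by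
  unfold delta
  simp only [zero_add, Finset.card_univ, Fintype.card_fin]
  rw [eq_sub_iff_add_eq]
  conv_rhs => rw [← Finset.sum_erase_add _ _ (Finset.empty_mem_powerset (Finset.univ : Finset (Fin k)))]
  simp

lemma delta_zero_coord {ι : Type*} [DecidableEq ι] (f : A → G) (s : Finset ι) (x : ι → A) {a : ι}
    (ha : a ∈ s) (hx : x a = 0) (c : A) : delta f s x c = 0 := by
  rw [← Finset.insert_erase ha, delta_insert f (Finset.notMem_erase a s), hx, add_zero, sub_self]

lemma delta_cons {k : ℕ} (f : A → G) (b : A) (y : Fin k → A) (c : A) :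
    delta f Finset.univ (Fin.cons b y) c = delta f Finset.univ y (c + b) - delta f Finset.univ y c := by
  rw [Fin.univ_succ, Finset.cons_eq_insert, delta_insert f (by simp [Fin.succ_ne_zero]), delta_map, delta_map]
  rfl

/-- splitting one variable -/
lemma dev_split {k : ℕ} (f : A → G) (j : Fin k) (y : Fin k → A) (a b : A) :
    ∑ I ∈ ((Finset.univ : Finset (Fin (k + 1))).powerset.erase ∅),
        ((-1 : ℤ) ^ (k + 1 + I.card)) • f (∑ i ∈ I, (Fin.cons b (Function.update y j a) : Fin (k + 1) → A) i)
      = (∑ I ∈ ((Finset.univ : Finset (Fin k)).powerset.erase ∅), ((-1 : ℤ) ^ (k + I.card)) • f (∑ i ∈ I, (Function.update y j (a + b)) i))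
        - (∑ I ∈ ((Finset.univ : Finset (Fin k)).powerset.erase ∅), ((-1 : ℤ) ^ (k + I.card)) • f (∑ i ∈ I, (Function.update y j a) i))
        - (∑ I ∈ ((Finset.univ : Finset (Fin k)).powerset.erase ∅), ((-1 : ℤ) ^ (k + I.card)) • f (∑ i ∈ I, (Function.update y j b) i)) := by
  classical
  rw [dev_eq, dev_eq, dev_eq, dev_eq, delta_cons]
  have key : ∀ (v c : A), delta f Finset.univ (Function.update y j v) c
      = delta f (Finset.univ.erase j) y (c + v) - delta f (Finset.univ.erase j) y c := by
    intro v c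
    conv_lhs => rw [← Finset.insert_erase (Finset.mem_univ j)]
    rw [delta_insert f (Finset.notMem_erase j _), Function.update_self,
      delta_congr f _ (fun i hi => Function.update_of_ne (Finset.ne_of_mem_erase hi) v y),
      delta_congr f _ (fun i hi => Function.update_of_ne (Finset.ne_of_mem_erase hi) v y)]
  simp only [key, zero_add, pow_succ, mul_neg_one, neg_smul]
  rw [add_comm b a]
  abel

lemma tri_succ (n : ℤ) : (n + 1) * (n + 2) / 2 = n * (n + 1) / 2 + (n + 1) := by
  rw [show (n + 1) * (n + 2) = n * (n + 1) + 2 * (n + 1) by ring, Int.add_mul_ediv_left _ _ two_ne_zero]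

section DegTwo

variable {f : A → G} (hf : ∀ x y z : A, f (x + y + z) + f x + f y + f z = f (x + y) + f (x + z) + f (y + z))
include hf

lemma map_zero_of_degTwo : f 0 = 0 := by
  have h := hf 0 0 0
  simp only [add_zero] at h
  simpa using h

lemma map_zsmul_of_degTwo (n : ℤ) (x : A) :
    f (n • x) = (n * (n + 1) / 2) • f x + (n * (n - 1) / 2) • f (-x) := by
  have h0 := map_zero_of_degTwo hf
  let P : ℤ → G := fun m => (m * (m + 1) / 2) • f x + (m * (m - 1) / 2) • f (-x)
  have hP : ∀ m : ℤ, P (m + 1) + P (m - 1) = P m + P m + f x + f (-x) := by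
    intro m
    have e1 := tri_succ m
    have e2 := tri_succ (m - 1)
    have e3 := tri_succ (m - 2)
    rw [show m - 1 + 1 = m by ring, show m - 1 + 2 = m + 1 by ring] at e2
    rw [show m - 2 + 1 = m - 1 by ring, show m - 2 + 2 = m by ring] at e3
    simp only [P]
    rw [show m + 1 + 1 = m + 2 by ring, show m + 1 - 1 = m by ring,
      show m - 1 + 1 = m by ring, show m - 1 - 1 = m - 2 by ring,
      mul_comm (m + 1) m, mul_comm m (m - 1)]
    rw [mul_comm (m - 1) (m - 2)] 
    rw [e1, e2, e3]
    simp only [add_smul, sub_smul, one_smul]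
    abel
  have hF : ∀ m : ℤ, f ((m + 1) • x) + f ((m - 1) • x) = f (m • x) + f (m • x) + f x + f (-x) := by
    intro m
    have h := hf (m • x) x (-x)
    rw [add_neg_cancel, h0, add_zero, add_assoc (m • x) x (-x), add_neg_cancel, add_zero] at h
    rw [add_smul, sub_smul, one_smul, sub_eq_add_neg, ← h]
  suffices H : ∀ m : ℤ, f (m • x) = P m ∧ f ((m + 1) • x) = P (m + 1) from (H n).1
  intro m
  induction m using Int.induction_on with
  | zero => exact ⟨by simp [P, h0], by simp [P]⟩
  | succ i ih =>
    refine ⟨ih.2, ?_⟩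
    have a := hF ((i : ℤ) + 1)
    rw [show ((i : ℤ) + 1 - 1) = i by ring, ih.1, ih.2] at a
    have b := hP ((i : ℤ) + 1)
    rw [show ((i : ℤ) + 1 - 1) = i by ring] at b
    exact add_right_cancel (a.trans b.symm)
  | pred i ih =>
    have e : -(i : ℤ) - 1 + 1 = -(i : ℤ) := by ring
    refine ⟨?_, by rw [e]; exact ih.1⟩
    have a := hF (-(i : ℤ))
    have b := hP (-(i : ℤ))
    rw [ih.1, ih.2] at a
    exact add_left_cancel (a.trans b.symm)

lemma two_mul_zsmul_of_degTwo (n : ℤ) (hn : ∀ x : A, n • x = 0) :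
    (∀ x : A, (2 * n) • f x = 0) ∧ (Odd n → ∀ x : A, n • f x = 0) := by
  have h0 := map_zero_of_degTwo hf
  let B : A → A →+ G := fun y => AddMonoidHom.mk' (fun z => f (z + y) - f z - f y) (fun z w => by
    have h := hf z w y
    rw [← sub_eq_zero] at h ⊢
    rw [← h]; abel)
  have hB : ∀ x, n • (f (x + x) - f x - f x) = 0 := fun x => by
    have h := map_zsmul (B x) n x
    rw [hn, map_zero] at h
    exact h.symm
  have hsum : ∀ x, n • f x + n • f (-x) = 0 := fun x => by
    have h2 := map_zsmul_of_degTwo hf 2 x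
    norm_num at h2
    rw [two_zsmul] at h2
    have := hB x
    rw [h2, show (3 : ℤ) • f x + f (-x) - f x - f x = f x + f (-x) by
      rw [show (3 : ℤ) • f x = f x + f x + f x by
        rw [show (3 : ℤ) = 1 + 1 + 1 by norm_num, add_smul, add_smul, one_smul]]
      abel, smul_add] at this
    exact this
  have hT : ∀ x, (n * (n + 1) / 2) • f x + (n * (n - 1) / 2) • f (-x) = 0 := fun x => by
    rw [← map_zsmul_of_degTwo hf n x, hn, h0]
  have hd : (n * (n + 1) / 2) = (n * (n - 1) / 2) + n := by
    have := tri_succ (n - 1)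
    rw [show n - 1 + 1 = n by ring, show n - 1 + 2 = n + 1 by ring, mul_comm (n - 1) n] at this
    exact this
  have hdiff : ∀ x, n • f x = n • f (-x) := fun x => by
    have h1 := hT x
    have h2 := hT (-x)
    rw [neg_neg] at h2
    rw [hd, add_smul] at h1 h2
    rw [← sub_eq_zero]
    calc n • f x - n • f (-x) = ((n * (n - 1) / 2) • f x + n • f x + (n * (n - 1) / 2) • f (-x))
          - ((n * (n - 1) / 2) • f (-x) + n • f (-x) + (n * (n - 1) / 2) • f x) := by abel
      _ = 0 := by rw [h1, h2, sub_zero]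
  have h2n : ∀ x, (2 * n) • f x = 0 := fun x => by
    rw [two_mul, add_smul]
    nth_rewrite 2 [hdiff x]
    exact hsum x
  refine ⟨h2n, ?_⟩
  rintro ⟨m, rfl⟩ x
  set N : ℤ := 2 * m + 1 with hN
  have e1 : N * (N + 1) / 2 = N * (m + 1) := by
    rw [show N * (N + 1) = N * (m + 1) * 2 by rw [hN]; ring, Int.mul_ediv_cancel _ two_ne_zero]
  have e2 : N * (N - 1) / 2 = m * N := by
    rw [show N * (N - 1) = m * N * 2 by rw [hN]; ring, Int.mul_ediv_cancel _ two_ne_zero]
  have h1 := hT x
  rw [e1, e2, mul_smul m N, ← hdiff x, ← mul_smul, ← add_smul,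
    show N * (m + 1) + m * N = N + m * (2 * N) by ring, add_smul, mul_smul, h2n, smul_zero,
    add_zero] at h1
  exact h1

end DegTwo

end Groth.Agent.H7.Deg
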