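import Mathlib

/-! Telescoping identity for multilinear maps (S13682). -/

namespace Groth.Agent.H7.Tele

open Finset

variable {A : Type*} [CommRing A] (α : A)

/-- diagonal term -/
def T {r : ℕ} {M : Fin r → Type*} {N : Type*} [∀ i, AddCommGroup (M i)] [∀ i, Module A (M i)]
    [AddCommGroup N] [Module A N] (φ : MultilinearMap A M N) (y w : ∀ i, ℕ → M i) (j : ℕ) : N :=
  ∑ i : Fin r, φ (fun k => if k < i then w k (j + 1) else if k = i then y k j else w k j)

/-- corner term -/
def R {r : ℕ} {M : Fin r → Type*} {N : Type*} [∀ i, AddCommGroup (M i)] [∀ i, Module A (M i)]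
    [AddCommGroup N] [Module A N] (φ : MultilinearMap A M N) (y w : ∀ i, ℕ → M i) (n : ℕ) : N :=
  ∑ i : Fin r, ∑ j ∈ range n,
    φ (fun k => if k < i then w k n else if k = i then y k j else w k 0)

theorem main : ∀ {r : ℕ} {M : Fin r → Type*} {N : Type*} [∀ i, AddCommGroup (M i)]
    [∀ i, Module A (M i)] [AddCommGroup N] [Module A N] (φ : MultilinearMap A M N) (n : ℕ)
    (y w : ∀ i, ℕ → M i), (∀ i, ∀ j < n, w i (j + 1) = w i j + α • y i j) →
    (φ (fun i => w i n) = φ (fun i => w i 0) + α • ∑ j ∈ range n, T φ y w j) ∧
      ∑ j ∈ range n, T φ y w j = R φ y w n := by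
  intro r
  induction r with
  | zero =>
    intro M N _ _ _ _ φ n y w hw
    refine ⟨?_, by simp [T, R]⟩
    simp only [T, Finset.univ_eq_empty, Finset.sum_empty, Finset.sum_const_zero, smul_zero, add_zero]
    congr 1
    exact funext fun i => i.elim0
  | succ r ih =>
    intro M N _ _ _ _ φ n y w hw
    let y' : ∀ i : Fin r, ℕ → M i.succ := fun i => y i.succ
    let w' : ∀ i : Fin r, ℕ → M i.succ := fun i => w i.succ
    have tuple : ∀ (v : M 0) (u : ∀ i : Fin r, M i.succ) (F : ∀ k, M k),
        F 0 = v → (∀ k, F k.succ = u k) → φ F = φ.curryLeft v u := by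
      intro v u F h1 h2
      rw [MultilinearMap.curryLeft_apply]
      congr 1
      funext k
      cases k using Fin.cases with
      | zero => simpa using h1
      | succ k => simpa using h2 k
    have hT : ∀ j, T φ y w j = φ.curryLeft (y 0 j) (fun k => w' k j)
        + T (φ.curryLeft (w 0 (j + 1))) y' w' j := by
      intro j
      unfold T
      rw [Fin.sum_univ_succ]
      congr 1
      · exact tuple _ _ _ (by simp) (fun k => by simp [Fin.succ_ne_zero, w'])
      · refine Finset.sum_congr rfl fun i _ => ?_
        exact tuple _ _ _ (by simp [Fin.succ_pos]) (fun k => by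
          simp only [Fin.succ_lt_succ_iff, Fin.succ_inj, y', w'])
    have hR : ∀ m, R φ y w m = (∑ j ∈ range m, φ.curryLeft (y 0 j) (fun k => w' k 0))
        + R (φ.curryLeft (w 0 m)) y' w' m := by
      intro m
      unfold R
      rw [Fin.sum_univ_succ]
      congr 1
      · refine Finset.sum_congr rfl fun j _ => ?_
        exact tuple _ _ _ (by simp) (fun k => by simp [Fin.succ_ne_zero, w'])
      · refine Finset.sum_congr rfl fun i _ => Finset.sum_congr rfl fun j _ => ?_
        exact tuple _ _ _ (by simp [Fin.succ_pos]) (fun k => by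
          simp only [Fin.succ_lt_succ_iff, Fin.succ_inj, y', w'])
    have key : ∀ m ≤ n, (φ (fun i => w i m) = φ (fun i => w i 0) + α • ∑ j ∈ range m, T φ y w j) ∧
        ∑ j ∈ range m, T φ y w j = R φ y w m := by
      intro m hm
      induction m with
      | zero => simp [R]
      | succ m hm' =>
        obtain ⟨h1, h2⟩ := hm' (by omega)
        have hw0 : w 0 (m + 1) = w 0 m + α • y 0 m := hw 0 m (by omega)
        have hw1 : ∀ i, ∀ j < m + 1, w' i (j + 1) = w' i j + α • y' i j :=
          fun i j hj => hw i.succ j (by omega)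
        have iy := ih (φ.curryLeft (y 0 m)) m y' w' (fun i j hj => hw1 i j (by omega))
        have iv := ih (φ.curryLeft (w 0 (m + 1))) m y' w' (fun i j hj => hw1 i j (by omega))
        have iv' := ih (φ.curryLeft (w 0 (m + 1))) (m + 1) y' w' hw1
        have iu := ih (φ.curryLeft (w 0 m)) m y' w' (fun i j hj => hw1 i j (by omega))
        refine ⟨?_, ?_⟩
        · rw [tuple (w 0 (m + 1)) (fun k => w' k (m + 1)) (fun i => w i (m + 1)) rfl (fun _ => rfl),
            iv'.1, Finset.sum_range_succ, smul_add, ← add_assoc, ← iv.1,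
            Finset.sum_range_succ _ m, smul_add, ← add_assoc, ← h1,
            tuple (w 0 m) (fun k => w' k m) (fun i => w i m) rfl (fun _ => rfl), hT m, smul_add,
            hw0, map_add, map_smul, add_apply, smul_apply]
          abel
        · rw [Finset.sum_range_succ, h2, hR m, hR (m + 1), Finset.sum_range_succ, hT m, ← iv'.2,
            ← iu.2, Finset.sum_range_succ _ m, iv.2, iy.1, iy.2, hw0, iu.2]
          have hlin : R (φ.curryLeft (w 0 m + α • y 0 m)) y' w' m
              = R (φ.curryLeft (w 0 m)) y' w' m + α • R (φ.curryLeft (y 0 m)) y' w' m := by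
            simp only [R, map_add, map_smul, MultilinearMap.add_apply, MultilinearMap.smul_apply,
              Finset.sum_add_distrib, Finset.smul_sum]
          rw [hlin]
          abel
    exact key n le_rfl

end Groth.Agent.H7.Tele
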